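import Mathlib

/-!
Element orders in split extensions by powers of a normal subgroup of prime exponent.
-/

namespace Cfsg.Agent.Spectrum69

/-- A copy of a finite group on a type in `Type`. -/
theorem exists_type_zero_copy (G : Type*) [Group G] [Finite G] :
    ∃ (H : Type) (_ : Group H) (_ : Fintype H), Nonempty (H ≃* G) :=
  letI := Fintype.ofFinite G
  let e : Fin (Fintype.card G) ≃ G := (Fintype.equivFin G).symm
  letI := e.group
  ⟨Fin (Fintype.card G), inferInstance, inferInstance, ⟨e.mulEquiv⟩⟩

theorem range_orderOf_congr {G H : Type*} [Monoid G] [Monoid H] (e : G ≃* H) :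
    Set.range (orderOf : G → ℕ) = Set.range (orderOf : H → ℕ) := by
  ext n
  exact ⟨fun ⟨g, hg⟩ => ⟨e g, by rw [MulEquiv.orderOf_eq, hg]⟩,
    fun ⟨g, hg⟩ => ⟨e.symm g, by rw [MulEquiv.orderOf_eq, hg]⟩⟩

variable {G W : Type*} [Group G] [Group W] {φ : G →* MulAut W}

theorem pow_card_left_eq {p : ℕ} (hexp : ∀ w : W, w ^ p = 1) (x : W ⋊[φ] G) :
    x ^ (orderOf x.right * p) = 1 := by
  have hr : (x ^ orderOf x.right).right = 1 := by
    rw [← SemidirectProduct.rightHom_eq_right, map_pow, SemidirectProduct.rightHom_eq_right,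
      pow_orderOf_eq_one]
  have hx : x ^ orderOf x.right = SemidirectProduct.inl (x ^ orderOf x.right).left :=
    SemidirectProduct.ext rfl hr
  rw [pow_mul, hx, ← map_pow, hexp, map_one]

/-- If `W` has prime exponent `p`, `V` is a normal subgroup of `G` of exponent `p`, and every
nontrivial element of `W` is detected by homomorphisms from `W ⋊ G` to `G` over `G/V`, then
`W ⋊ G` has the same element orders as `G`. -/
theorem range_orderOf_semidirect [Finite G] [Finite W] (V : Subgroup G) [V.Normal] {p : ℕ}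
    (hp : p.Prime) (hV : ∀ v ∈ V, v ^ p = 1) (hexp : ∀ w : W, w ^ p = 1)
    (hsep : ∀ w : W, w ≠ 1 → ∃ π : W ⋊[φ] G →* G,
      π (SemidirectProduct.inl w) ≠ 1 ∧ ∀ x, (x.right)⁻¹ * π x ∈ V) :
    Set.range (orderOf : W ⋊[φ] G → ℕ) = Set.range (orderOf : G → ℕ) := by
  apply Set.Subset.antisymm
  · rintro _ ⟨x, rfl⟩
    set n := orderOf x.right with hn
    have hr : (x ^ n).right = 1 := by
      rw [← SemidirectProduct.rightHom_eq_right, map_pow, SemidirectProduct.rightHom_eq_right,
        hn, pow_orderOf_eq_one]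
    have hx : x ^ n = SemidirectProduct.inl (x ^ n).left := SemidirectProduct.ext rfl hr
    have hdvd : orderOf x ∣ n * p := orderOf_dvd_of_pow_eq_one (pow_card_left_eq hexp x)
    have hndvd : n ∣ orderOf x := by
      have := orderOf_map_dvd (SemidirectProduct.rightHom (φ := φ)) x
      rwa [SemidirectProduct.rightHom_eq_right] at this
    by_cases hw : (x ^ n).left = 1
    · refine ⟨x.right, Nat.dvd_antisymm hndvd (orderOf_dvd_of_pow_eq_one ?_)⟩
      rw [hx, hw, map_one]
    · obtain ⟨π, hπ, hπV⟩ := hsep _ hw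
      have hπx : π x ^ n ≠ 1 := by rwa [← map_pow, hx]
      refine ⟨π x, Nat.dvd_antisymm (orderOf_map_dvd π x) ?_⟩
      -- the order modulo `V`
      set m := orderOf (QuotientGroup.mk' V x.right) with hm
      have hmπ : QuotientGroup.mk' V (π x) = QuotientGroup.mk' V x.right :=
        ((QuotientGroup.eq).2 (hπV x)).symm
      have hmn : m ∣ n := orderOf_map_dvd _ _
      have hnm : n ∣ m * p := by
        rw [hn]
        apply orderOf_dvd_of_pow_eq_one
        rw [pow_mul]
        apply hV
        rw [← QuotientGroup.eq_one_iff, ← QuotientGroup.mk'_apply, map_pow, hm,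
          pow_orderOf_eq_one]
      have hnp : n = m := by
        obtain ⟨c, hc⟩ := hmn
        have hm0 : 0 < m := orderOf_pos _
        have hcp : c ∣ p := by
          rw [hc] at hnm
          exact (Nat.mul_dvd_mul_iff_left hm0).1 hnm
        rcases (Nat.dvd_prime hp).1 hcp with rfl | rfl
        · simpa using hc
        · exfalso
          apply hπx
          rw [hc, pow_mul]
          apply hV
          rw [← QuotientGroup.eq_one_iff, ← QuotientGroup.mk'_apply, map_pow, hmπ, hm,
            pow_orderOf_eq_one]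
      have h1 : n ∣ orderOf (π x) := by
        have := orderOf_map_dvd (QuotientGroup.mk' V) (π x)
        rw [hmπ, ← hm, ← hnp] at this
        exact this
      obtain ⟨c, hc⟩ := h1
      have hn0 : 0 < n := orderOf_pos _
      have hcp : c ∣ p := by
        have := (orderOf_map_dvd π x).trans hdvd
        rw [hc] at this
        exact (Nat.mul_dvd_mul_iff_left hn0).1 this
      rcases (Nat.dvd_prime hp).1 hcp with rfl | rfl
      · exfalso
        apply hπx
        rw [← orderOf_dvd_iff_pow_eq_one, hc, mul_one]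
      · exact hc ▸ hdvd
  · rintro _ ⟨g, rfl⟩
    exact ⟨SemidirectProduct.inr g,
      orderOf_injective SemidirectProduct.inr SemidirectProduct.inr_injective g⟩

/-- The coordinatewise conjugation action of `G` on `ι → V`. -/
def piConj (V : Subgroup G) [V.Normal] (ι : Type*) : G →* MulAut (ι → V) where
  toFun g := MulEquiv.piCongrRight fun _ => MulAut.conjNormal g
  map_one' := by ext f i; simp
  map_mul' g h := by ext f i; simp [mul_assoc]

/-- Evaluation of the `i`-th coordinate, as a homomorphism to `G`. -/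
def evalMul (V : Subgroup G) [V.Normal] {ι : Type*} (i : ι) :
    (ι → V) ⋊[piConj V ι] G →* G :=
  SemidirectProduct.lift ((V.subtype).comp (Pi.evalMonoidHom (fun _ => V) i)) (MonoidHom.id G)
    fun g => by ext f; simp [piConj]

theorem range_orderOf_piConj [Finite G] (V : Subgroup G) [V.Normal] {p : ℕ} (hp : p.Prime)
    (hV : ∀ v ∈ V, v ^ p = 1) (ι : Type*) [Finite ι] :
    Set.range (orderOf : (ι → V) ⋊[piConj V ι] G → ℕ) = Set.range (orderOf : G → ℕ) := by
  refine range_orderOf_semidirect V hp hV (fun w => funext fun i => Subtype.ext (hV _ (w i).2))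
    fun w hw => ?_
  obtain ⟨i, hi⟩ := Function.ne_iff.1 hw
  refine ⟨evalMul V i, ?_, fun x => ?_⟩
  · simpa [evalMul] using hi
  · show x.right⁻¹ * (((x.left i : V) : G) * x.right) ∈ V
    rw [← mul_assoc]
    exact (‹V.Normal›.conj_mem' _ (x.left i).2 x.right)

theorem exists_large_of_elementary [Finite G] (V : Subgroup G) [V.Normal] (hne : V ≠ ⊥) {p : ℕ}
    (hp : p.Prime) (hV : ∀ v ∈ V, v ^ p = 1) (N : ℕ) :
    ∃ (H : Type) (_ : Group H) (_ : Fintype H), N < Fintype.card H ∧
      Set.range (orderOf : H → ℕ) = Set.range (orderOf : G → ℕ) := by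
  have : Finite ((Fin N → V) ⋊[piConj V (Fin N)] G) := Finite.of_equiv _ SemidirectProduct.equivProd.symm
  obtain ⟨H, i1, i2, ⟨e⟩⟩ := exists_type_zero_copy ((Fin N → V) ⋊[piConj V (Fin N)] G)
  refine ⟨H, i1, i2, ?_, ?_⟩
  · rw [← Nat.card_eq_fintype_card, Nat.card_congr e.toEquiv, SemidirectProduct.card,
      Nat.card_fun, Nat.card_fin]
    have h2 : 2 ≤ Nat.card V := by
      have := (Subgroup.one_lt_card_iff_ne_bot V).2 hne
      omega
    calc N < 2 ^ N := Nat.lt_two_pow_self
      _ ≤ Nat.card V ^ N := Nat.pow_le_pow_left h2 N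
      _ ≤ _ := Nat.le_mul_of_pos_right _ Nat.card_pos
  · rw [range_orderOf_congr e, range_orderOf_piConj V hp hV]

end Cfsg.Agent.Spectrum69
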