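import Mathlib

/-!
Orders of elements of alternating groups: two large primes do not occur together.
-/

namespace Cfsg.Agent.Spectrum69

open Equiv

/-- A permutation of order `p q` moves at least `p + q` points. -/
theorem add_le_card_of_orderOf {α : Type*} [Fintype α] [DecidableEq α] {σ : Perm α} {p q : ℕ}
    (hp : p.Prime) (hq : q.Prime) (hpq : p ≠ q) (h : orderOf σ = p * q) :
    p + q ≤ Fintype.card α := by
  have hl : σ.cycleType.lcm = p * q := σ.lcm_cycleType.trans h
  have key : ∀ {r : ℕ}, r.Prime → r ∣ p * q → ∃ a ∈ σ.cycleType, r ∣ a := by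
    intro r hr hd
    rw [← hl] at hd
    generalize σ.cycleType = s at hd
    induction s using Multiset.induction with
    | empty => rw [Multiset.lcm_zero, Nat.dvd_one] at hd; exact absurd hd hr.one_lt.ne'
    | cons a s ih =>
      rw [Multiset.lcm_cons] at hd
      rcases hr.dvd_mul.1 (hd.trans (Nat.lcm_dvd_mul a s.lcm)) with h' | h'
      · exact ⟨a, Multiset.mem_cons_self _ _, h'⟩
      · obtain ⟨b, hb, hb'⟩ := ih h'
        exact ⟨b, Multiset.mem_cons_of_mem hb, hb'⟩
  obtain ⟨a, ha, hpa⟩ := key hp (dvd_mul_right _ _)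
  obtain ⟨b, hb, hqb⟩ := key hq (dvd_mul_left _ _)
  have hsum : σ.cycleType.sum ≤ Fintype.card α := by
    rw [Perm.sum_cycleType]; exact Finset.card_le_univ _
  have ha0 : 0 < a := lt_trans one_pos (Perm.one_lt_of_mem_cycleType ha)
  have hb0 : 0 < b := lt_trans one_pos (Perm.one_lt_of_mem_cycleType hb)
  by_cases e : a = b
  · have h1 : p * q ≤ a := Nat.le_of_dvd ha0
      (((Nat.coprime_primes hp hq).2 hpq).mul_dvd_of_dvd_of_dvd hpa (e ▸ hqb))
    have h2 : a ≤ σ.cycleType.sum := Multiset.le_sum_of_mem ha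
    have := Nat.mul_le_mul hp.two_le hq.two_le
    have : p + q ≤ p * q := Nat.add_le_mul hp.two_le hq.two_le
    omega
  · have h1 := Nat.le_of_dvd ha0 hpa
    have h2 := Nat.le_of_dvd hb0 hqb
    obtain ⟨t, ht⟩ := Multiset.exists_cons_of_mem ha
    have hbt : b ∈ t := by
      rw [ht, Multiset.mem_cons] at hb
      exact hb.resolve_left (Ne.symm e)
    have h3 : b ≤ t.sum := Multiset.le_sum_of_mem hbt
    rw [ht, Multiset.sum_cons] at hsum
    omega

/-- The alternating group has no element of order `p q` if `n < p + q`. -/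
theorem orderOf_ne_mul {n p q : ℕ} (hp : p.Prime) (hq : q.Prime) (hpq : p ≠ q) (hn : n < p + q)
    (x : alternatingGroup (Fin n)) : orderOf x ≠ p * q := by
  intro h
  rw [← Subgroup.orderOf_coe] at h
  have := add_le_card_of_orderOf hp hq hpq h
  rw [Fintype.card_fin] at this
  omega

/-- A prime in `(n/2, n]` divides the order of the alternating group exactly once. -/
theorem dvd_card_alternating {n p : ℕ} (hp : p.Prime) (h1 : n < 2 * p) (h2 : p ≤ n) (h3 : 2 < p) :
    p ∣ Nat.card (alternatingGroup (Fin n)) ∧ ¬ p ^ 2 ∣ Nat.card (alternatingGroup (Fin n)) := by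
  have : Nontrivial (Fin n) := Fin.nontrivial_iff_two_le.2 (by omega)
  have hc := two_mul_nat_card_alternatingGroup (α := Fin n)
  rw [Nat.card_perm, Nat.card_fin] at hc
  have : Fact p.Prime := ⟨hp⟩
  constructor
  · refine (Nat.Coprime.dvd_mul_left ?_).1 (hc ▸ Nat.dvd_factorial hp.pos h2)
    exact (Nat.coprime_primes hp Nat.prime_two).2 (by omega)
  · intro h
    have h' : p ^ 2 ∣ n.factorial := hc ▸ Dvd.dvd.mul_left h 2
    rw [padicValNat_dvd_iff_le (Nat.factorial_ne_zero n),
      padicValNat_factorial (b := 2) (Nat.log_lt_of_lt_pow (by omega) (by nlinarith))] at h'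
    simp only [show Finset.Ico 1 2 = {1} from rfl, Finset.sum_singleton, pow_one] at h'
    have : n / p < 2 := (Nat.div_lt_iff_lt_mul hp.pos).2 h1
    omega

end Cfsg.Agent.Spectrum69
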