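import Mathlib
import Cfsg.Agent.Lib.Thompson.Cores

/-!
Groups without elements of order `p q`: such primes divide the same chief factor.
-/

namespace Cfsg.Agent.Spectrum69

open scoped commutatorElement

variable {G : Type*} [Group G] [Finite G]

/-- If no element has order `p q` and `q` divides no `p ^ b - 1` with `p ^ b ∣ |G|`, a normal
subgroup of order divisible by `p` has order divisible by `q`. -/
theorem dvd_card_of_normal {p q : ℕ} (hp : p.Prime) (hq : q.Prime) (hpq : p ≠ q)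
    (hno : ∀ x : G, orderOf x ≠ p * q) (hqG : q ∣ Nat.card G)
    (hdiv : ∀ b, 1 ≤ b → p ^ b ∣ Nat.card G → ¬ q ∣ p ^ b - 1)
    (H : Subgroup G) [H.Normal] (hpH : p ∣ Nat.card H) : q ∣ Nat.card H := by
  have : Fact p.Prime := ⟨hp⟩
  have : Fact q.Prime := ⟨hq⟩
  by_contra hqH
  set P : Sylow p H := default
  set Q : Subgroup G := (P : Subgroup H).map H.subtype with hQ
  have hFr : Subgroup.normalizer (Q : Set G) ⊔ H = ⊤ := Sylow.normalizer_sup_eq_top P
  have hqN : q ∣ Nat.card (Subgroup.normalizer (Q : Set G)) := by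
    have h := Thompson.card_sup_dvd_mul (Subgroup.normalizer (Q : Set G)) H
    rw [hFr, Subgroup.card_top] at h
    exact ((Nat.Prime.dvd_mul hq).1 (hqG.trans h)).resolve_right hqH
  obtain ⟨y, hy⟩ := exists_prime_orderOf_dvd_card' q hqN
  have hyG : orderOf (y : G) = q := (Subgroup.orderOf_coe y).trans hy
  obtain ⟨b, hb⟩ := IsPGroup.iff_card.1 P.isPGroup'
  have hb1 : 1 ≤ b := by
    by_contra hb0
    have h0 : b = 0 := by omega
    have h1 : p ∣ Nat.card (P : Subgroup H) := P.dvd_card_of_dvd_card hpH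
    rw [hb, h0, pow_zero] at h1
    exact hp.one_lt.ne' (Nat.dvd_one.1 h1)
  have hQb : Nat.card Q = p ^ b := by
    rw [hQ, Subgroup.card_map_of_injective Subtype.val_injective, hb]
  have hfix : ∀ x ∈ Q, x ≠ 1 → (y : G) * x ≠ x * y := by
    intro x hx hx1 hcomm
    obtain ⟨k, hk⟩ := IsPGroup.iff_orderOf.1 (IsPGroup.of_card hQb) ⟨x, hx⟩
    rw [← Subgroup.orderOf_coe] at hk
    have hk0 : k ≠ 0 := by
      rintro rfl
      exact hx1 (orderOf_eq_one_iff.1 (by simpa using hk))
    obtain ⟨j, rfl⟩ := Nat.exists_eq_succ_of_ne_zero hk0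
    have hx' : orderOf (x ^ p ^ j) = p := by
      rw [orderOf_pow' _ (pow_ne_zero _ hp.ne_zero), hk, Nat.gcd_eq_right ((Nat.pow_dvd_pow _ (Nat.le_succ j))),
        pow_succ', Nat.mul_div_cancel _ (pow_pos hp.pos j)]
    refine hno ((x ^ p ^ j) * (y : G)) ?_
    have hc : Commute (x ^ p ^ j) (y : G) := (Commute.pow_left hcomm.symm _)
    rw [hc.orderOf_mul_eq_mul_orderOf_of_coprime (by
      rw [hx', hyG]; exact (Nat.coprime_primes hp hq).2 hpq), hx', hyG]
  -- the group generated by `y` acts on `Q`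
  have hmem : ∀ (g : Subgroup.zpowers (y : G)) (x : Q), (g : G) * (x : G) * (g : G)⁻¹ ∈ Q := by
    intro g x
    have hg : (g : G) ∈ Subgroup.normalizer (Q : Set G) :=
      (Subgroup.zpowers_le.2 y.2) g.2
    exact (Subgroup.mem_normalizer_iff.1 hg x).1 x.2
  let act : MulAction (Subgroup.zpowers (y : G)) Q :=
    { smul := fun g x => ⟨(g : G) * x * (g : G)⁻¹, hmem g x⟩
      one_smul := fun x => Subtype.ext (by show (1 : G) * x * (1 : G)⁻¹ = x; group)
      mul_smul := fun g h x => Subtype.ext (by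
        show (g : G) * h * x * ((g : G) * h)⁻¹ = g * (h * x * (h : G)⁻¹) * (g : G)⁻¹; group) }
  have hpg : IsPGroup q (Subgroup.zpowers (y : G)) :=
    IsPGroup.of_card (n := 1) (by rw [Nat.card_zpowers, hyG, pow_one])
  have hmod := hpg.card_modEq_card_fixedPoints Q
  have hone : MulAction.fixedPoints (Subgroup.zpowers (y : G)) Q = {1} := by
    ext x
    rw [MulAction.mem_fixedPoints, Set.mem_singleton_iff]
    constructor
    · intro h
      by_contra hx1
      have h' : (y : G) * (x : G) * (y : G)⁻¹ = x :=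
        congrArg Subtype.val (h ⟨y, Subgroup.mem_zpowers _⟩)
      exact hfix x x.2 (fun e => hx1 (Subtype.ext e)) (mul_inv_eq_iff_eq_mul.1 h')
    · rintro rfl g
      exact Subtype.ext (by show (g : G) * (1 : G) * (g : G)⁻¹ = 1; group)
  rw [hone, Nat.card_coe_set_eq, Set.ncard_singleton, hQb] at hmod
  refine hdiv b hb1 ?_ ((Nat.modEq_iff_dvd' (Nat.one_le_pow _ _ hp.pos)).1 hmod.symm)
  rw [← hQb]
  exact Subgroup.card_subgroup_dvd_card Q

omit [Finite G] in
/-- A largest normal subgroup of order prime to `p`, and a least normal subgroup above it. -/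
theorem exists_chief [Finite G] {p : ℕ} (hp : p.Prime) (hpG : p ∣ Nat.card G) :
    ∃ N H : Subgroup G, N.Normal ∧ H.Normal ∧ N < H ∧ ¬ p ∣ Nat.card N ∧ p ∣ Nat.card H ∧
      ∀ K : Subgroup G, K.Normal → N ≤ K → K < H → K = N := by
  classical
  obtain ⟨N, hN, hNmax⟩ := Set.Finite.exists_maximal
    (Set.toFinite {N : Subgroup G | N.Normal ∧ ¬ p ∣ Nat.card N})
    ⟨⊥, inferInstance, by rw [Subgroup.card_bot, Nat.dvd_one]; exact hp.one_lt.ne'⟩
  obtain ⟨H, hH, hHmin⟩ := Set.Finite.exists_minimal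
    (Set.toFinite {H : Subgroup G | H.Normal ∧ N < H})
    ⟨⊤, inferInstance, lt_top_iff_ne_top.2 fun e => hN.2 (by rw [e, Subgroup.card_top]; exact hpG)⟩
  refine ⟨N, H, hN.1, hH.1, hH.2, hN.2, ?_, fun K hK hNK hKH => ?_⟩
  · by_contra h
    exact hH.2.not_ge (hNmax ⟨hH.1, h⟩ hH.2.le)
  · by_contra hne
    exact hKH.not_ge (hHmin ⟨hK, lt_of_le_of_ne hNK (Ne.symm hne)⟩ hKH.le)

/-- Two primes as in `dvd_card_of_normal` (both ways) force non-solvability. -/
theorem not_isSolvable {p q : ℕ} (hp : p.Prime) (hq : q.Prime) (hpq : p ≠ q)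
    (hpG : p ∣ Nat.card G) (hqG : q ∣ Nat.card G) (hno : ∀ x : G, orderOf x ≠ p * q)
    (hdiv : ∀ b, 1 ≤ b → p ^ b ∣ Nat.card G → ¬ q ∣ p ^ b - 1)
    (hdiv' : ∀ b, 1 ≤ b → q ^ b ∣ Nat.card G → ¬ p ∣ q ^ b - 1) : ¬ Group.IsSolvable G := by
  intro hsol
  have : Fact p.Prime := ⟨hp⟩
  have : Fact q.Prime := ⟨hq⟩
  obtain ⟨N, H, hNn, hHn, hlt, hpN, hpH, hmin⟩ := exists_chief hp hpG
  have hqH : q ∣ Nat.card H := dvd_card_of_normal hp hq hpq hno hqG hdiv H hpH
  have hqN : ¬ q ∣ Nat.card N := fun h =>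
    hpN (dvd_card_of_normal hq hp hpq.symm (fun x => by rw [mul_comm]; exact hno x) hpG hdiv' N h)
  have hder : ⁅H, H⁆ ≤ N := by
    by_contra h
    have hK : (⁅H, H⁆ ⊔ N).Normal := Subgroup.sup_normal _ _
    have hKH : ⁅H, H⁆ ⊔ N ≤ H := sup_le (Subgroup.commutator_le_self H) hlt.le
    rcases hKH.lt_or_eq with hK' | hK'
    · exact h (le_sup_left.trans (hmin _ hK le_sup_right hK').le)
    -- the image of `H` in `G ⧸ N` is perfect
    have hperf : (H.map (QuotientGroup.mk' N)) = ⁅H.map (QuotientGroup.mk' N), H.map (QuotientGroup.mk' N)⁆ := by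
      rw [← Subgroup.map_commutator]
      conv_lhs => rw [← hK', Subgroup.map_sup, QuotientGroup.map_mk'_self, sup_bot_eq]
    have hne : H.map (QuotientGroup.mk' N) ≠ ⊥ := by
      intro e
      rw [Subgroup.map_eq_bot_iff, QuotientGroup.ker_mk'] at e
      exact hlt.not_ge e
    exact (Group.IsSolvable.commutator_lt_of_ne_bot (G := G ⧸ N) hne).ne hperf.symm
  -- the Sylow `p`-subgroups of `H` give a normal subgroup
  set P : Sylow p H := default
  set K : Subgroup G := N ⊔ (P : Subgroup H).map H.subtype with hK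
  have hKH : K ≤ H := sup_le hlt.le (Subgroup.map_subtype_le _)
  have hKn : K.Normal := by
    have hnH : ∀ h ∈ H, ∀ z ∈ K, h * z * h⁻¹ ∈ K := by
      intro h hh z hz
      have hc : ⁅h, z⁆ ∈ K := le_sup_left (a := N) (hder (Subgroup.commutator_mem_commutator hh (hKH hz)))
      have := mul_mem hc hz
      simpa [commutatorElement_def] using this
    constructor
    intro z hz g
    have hle : K ≤ K.comap (MulAut.conj g).toMonoidHom := by
      refine sup_le (fun n hn => le_sup_left (a := N) (hNn.conj_mem n hn g)) ?_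
      rintro _ ⟨x, hx, rfl⟩
      obtain ⟨h, hh⟩ := MulAction.exists_smul_eq H P
        (Sylow.comapOfInjective (G := H) P ((MulAut.conjNormal (g⁻¹ : G) : H ≃* H).toMonoidHom)
          (MulEquiv.injective _) (fun y _ => ⟨(MulAut.conjNormal (g⁻¹ : G) : H ≃* H).symm y,
            MulEquiv.apply_symm_apply _ _⟩))
      have h2 : (MulAut.conjNormal g x : H) ∈ ((h • P : Sylow p H) : Subgroup H) := by
        rw [hh]
        show (MulAut.conjNormal (g⁻¹ : G)) (MulAut.conjNormal g x) ∈ (P : Subgroup H)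
        rw [← MulAut.mul_apply, ← map_mul, inv_mul_cancel, map_one, MulAut.one_apply]
        exact hx
      rw [Sylow.coe_subgroup_smul] at h2
      obtain ⟨x', hx', e⟩ := h2
      have e' : (h : G) * (x' : G) * (h : G)⁻¹ = g * (x : G) * g⁻¹ := congrArg Subtype.val e
      show g * (x : G) * g⁻¹ ∈ K
      rw [← e']
      exact hnH h h.2 _ (le_sup_right (a := N) ⟨x', hx', rfl⟩)
    exact hle hz
  have hqK : ¬ q ∣ Nat.card K := by
    intro h
    rw [hK, sup_comm] at h
    rcases (Nat.Prime.dvd_mul hq).1 (h.trans (Thompson.card_sup_dvd_mul _ N)) with h' | h'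
    · rw [Subgroup.card_map_of_injective Subtype.val_injective] at h'
      obtain ⟨b, hb⟩ := IsPGroup.iff_card.1 P.isPGroup'
      rw [hb] at h'
      exact hpq ((Nat.prime_dvd_prime_iff_eq hq hp).1 (hq.dvd_of_dvd_pow h')).symm
    · exact hqN h'
  have hKeq : K = N := hmin K hKn le_sup_left (lt_of_le_of_ne hKH fun e => hqK (e ▸ hqH))
  have hPN : (P : Subgroup H).map H.subtype ≤ N := hKeq ▸ le_sup_right
  refine hpN (dvd_trans ?_ (Subgroup.card_dvd_of_le hPN))
  rw [Subgroup.card_map_of_injective Subtype.val_injective]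
  exact P.dvd_card_of_dvd_card hpH

/-- A family of such primes lies in one simple chief factor. -/
theorem exists_simple_factor (S : Set ℕ) (hprime : ∀ p ∈ S, p.Prime)
    (hG : ∀ p ∈ S, p ∣ Nat.card G) (hsq : ∀ p ∈ S, ¬ p ^ 2 ∣ Nat.card G)
    (hno : ∀ p ∈ S, ∀ q ∈ S, p ≠ q → ∀ x : G, orderOf x ≠ p * q)
    (hdiv : ∀ p ∈ S, ∀ q ∈ S, p ≠ q → ¬ q ∣ p - 1) {p₀ q₀ : ℕ} (hp₀ : p₀ ∈ S) (hq₀ : q₀ ∈ S)
    (hne₀ : p₀ ≠ q₀) :
    ∃ (N H : Subgroup G) (_ : N.Normal), H.Normal ∧ N < H ∧
      IsSimpleGroup (↥H ⧸ N.subgroupOf H) ∧ ¬ IsMulCommutative (↥H ⧸ N.subgroupOf H) ∧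
      ∀ p ∈ S, p ∣ Nat.card (↥H ⧸ N.subgroupOf H) := by
  obtain ⟨N, H, hNn, hHn, hlt, hpN, hpH, hmin⟩ := exists_chief (hprime _ hp₀) (hG _ hp₀)
  have key : ∀ p ∈ S, ∀ q ∈ S, ∀ K : Subgroup G, K.Normal → p ∣ Nat.card K → q ∣ Nat.card K := by
    intro p hp q hq K hK hpK
    by_cases e : p = q
    · exact e ▸ hpK
    refine dvd_card_of_normal (hprime _ hp) (hprime _ hq) e (hno _ hp _ hq e) (hG _ hq) ?_ K hpK
    intro b hb hbd
    have hb' : b = 1 := by
      by_contra hb2
      exact hsq _ hp (dvd_trans (Nat.pow_dvd_pow _ (by omega)) hbd)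
    rw [hb', pow_one]
    exact hdiv _ hp _ hq e
  have hSN : ∀ p ∈ S, ¬ p ∣ Nat.card N := fun p hp h => hpN (key p hp p₀ hp₀ N hNn h)
  have hSH : ∀ p ∈ S, p ∣ Nat.card H := fun p hp => key p₀ hp₀ p hp H hHn hpH
  have hNH : (N.subgroupOf H).Normal := Subgroup.normal_subgroupOf
  have hcard : Nat.card H = Nat.card (↥H ⧸ N.subgroupOf H) * Nat.card N := by
    rw [Subgroup.card_eq_card_quotient_mul_card_subgroup (N.subgroupOf H),
      Nat.card_congr (Subgroup.subgroupOfEquivOfLe hlt.le).toEquiv]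
  have hSQ : ∀ p ∈ S, p ∣ Nat.card (↥H ⧸ N.subgroupOf H) := fun p hp =>
    ((hprime p hp).dvd_mul.1 (hcard ▸ hSH p hp)).resolve_right (hSN p hp)
  -- a proper normal subgroup of `H` above `N` has order prime to every prime in `S`
  let Good : Set (Subgroup H) := {K | K.Normal ∧ N.subgroupOf H ≤ K ∧ K ≠ ⊤}
  have hgood : ∀ K ∈ Good, ∀ p ∈ S, ¬ p ∣ Nat.card K := by
    intro K hK p hp hpK
    obtain ⟨hKn, hNK, hKne⟩ := hK
    have : Fact p.Prime := ⟨hprime p hp⟩
    have hex : ∀ x : H, orderOf x = p → x ∈ K := by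
      intro x hx
      obtain ⟨u, hu⟩ := exists_prime_orderOf_dvd_card' p hpK
      have hu' : orderOf (u : H) = p := (Subgroup.orderOf_coe u).trans hu
      have hS : ∀ z : H, orderOf z = p → Nat.card (Subgroup.zpowers z) = p ^ (Nat.card H).factorization p := by
        intro z hz
        have h1 : (Nat.card H).factorization p = 1 := by
          have a1 : 1 ≤ (Nat.card H).factorization p :=
            (hprime p hp).factorization_pos_of_dvd Nat.card_pos.ne' (hSH p hp)
          by_contra h1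
          exact hsq p hp (dvd_trans (Nat.pow_dvd_pow p (by omega : 2 ≤ (Nat.card H).factorization p))
            ((Nat.ordProj_dvd _ _).trans H.card_subgroup_dvd_card))
        rw [Nat.card_zpowers, hz, h1, pow_one]
      obtain ⟨c, hc⟩ := MulAction.exists_smul_eq H
        (Sylow.ofCard (Subgroup.zpowers (u : H)) (hS _ hu')) (Sylow.ofCard (Subgroup.zpowers x) (hS _ hx))
      have hxm : x ∈ ((Sylow.ofCard (Subgroup.zpowers x) (hS _ hx) : Sylow p H) : Subgroup H) :=
        Subgroup.mem_zpowers x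
      rw [← hc, Sylow.coe_subgroup_smul] at hxm
      obtain ⟨u', hu', rfl⟩ := hxm
      exact hKn.conj_mem u' ((Subgroup.zpowers_le.2 u.2) hu') c
    -- the core of `K` in `G` then has order divisible by `p`
    let C : Subgroup G := (K.map H.subtype).normalCore
    have hNC : N ≤ C := Subgroup.normal_le_normalCore.2 fun n hn =>
      ⟨⟨n, hlt.le hn⟩, hNK hn, rfl⟩
    have hCH : C < H := by
      refine lt_of_le_of_lt (Subgroup.normalCore_le _) (lt_of_le_of_ne (Subgroup.map_subtype_le _) ?_)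
      intro e
      apply hKne
      rw [eq_top_iff]
      intro x _
      obtain ⟨k, hk, hkx⟩ : (x : G) ∈ K.map H.subtype := by rw [e]; exact x.2
      exact Subtype.ext hkx ▸ hk
    have hCN := hmin C (Subgroup.normalCore_normal _) hNC hCH
    obtain ⟨z, hz⟩ := exists_prime_orderOf_dvd_card' p (hSH p hp)
    have hzC : (z : G) ∈ C := by
      intro g
      refine ⟨⟨g * z * g⁻¹, hHn.conj_mem _ z.2 g⟩, hex _ ?_, rfl⟩
      rw [← Subgroup.orderOf_coe]
      show orderOf (MulAut.conj g (z : G)) = p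
      rw [MulEquiv.orderOf_eq, Subgroup.orderOf_coe, hz]
    rw [hCN] at hzC
    exact hSN p hp (by
      have := Subgroup.orderOf_dvd_natCard N hzC
      rwa [Subgroup.orderOf_coe, hz] at this)
  have hGood0 : N.subgroupOf H ∈ Good := ⟨hNH, le_rfl, fun e => hlt.not_ge (Subgroup.subgroupOf_eq_top.1 e)⟩
  have hsup : ∀ A ∈ Good, ∀ B ∈ Good, A ⊔ B ∈ Good := by
    intro A hA B hB
    have := hA.1
    have := hB.1
    refine ⟨Subgroup.sup_normal A B, hA.2.1.trans le_sup_left, fun e => ?_⟩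
    have h := Thompson.card_sup_dvd_mul A B
    rw [e, Subgroup.card_top] at h
    rcases (hprime _ hp₀).dvd_mul.1 (hpH.trans h) with h' | h'
    · exact hgood A hA _ hp₀ h'
    · exact hgood B hB _ hp₀ h'
  obtain ⟨M, hM, hMmax⟩ := Set.Finite.exists_maximal (Set.toFinite Good) ⟨_, hGood0⟩
  have hgreat : ∀ A ∈ Good, A ≤ M := fun A hA =>
    le_sup_left.trans (hMmax (hsup A hA M hM) le_sup_right)
  have hMN : M = N.subgroupOf H := by
    have hMG : (M.map H.subtype).Normal := by
      constructor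
      rintro _ ⟨m, hm, rfl⟩ g
      let φ : H ≃* H := MulAut.conjNormal g
      have hg : M.map φ.toMonoidHom ∈ Good := by
        refine ⟨Subgroup.Normal.map hM.1 _ φ.surjective, ?_, ?_⟩
        · intro n hn
          refine ⟨φ.symm n, hM.2.1 ?_, φ.apply_symm_apply n⟩
          show ((φ.symm n : H) : G) ∈ N
          have : ((φ.symm n : H) : G) = g⁻¹ * (n : G) * g⁻¹⁻¹ := by
            simp [φ, MulAut.conjNormal_symm_apply]
          rw [this]
          exact hNn.conj_mem _ hn g⁻¹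
        · intro e
          apply hM.2.2
          rw [eq_top_iff]
          intro x _
          obtain ⟨y, hy, hyx⟩ := e.symm ▸ Subgroup.mem_top (φ x)
          exact φ.injective hyx ▸ hy
      exact ⟨_, hgreat _ hg ⟨m, hm, rfl⟩, MulAut.conjNormal_apply g m⟩
    have h1 : N ≤ M.map H.subtype := fun n hn => ⟨⟨n, hlt.le hn⟩, hM.2.1 hn, rfl⟩
    have h2 : M.map H.subtype < H := by
      refine lt_of_le_of_ne (Subgroup.map_subtype_le _) fun e => hM.2.2 ?_
      rw [eq_top_iff]
      intro x _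
      obtain ⟨k, hk, hkx⟩ : (x : G) ∈ M.map H.subtype := by rw [e]; exact x.2
      exact Subtype.ext hkx ▸ hk
    have := hmin _ hMG h1 h2
    rw [← this, Subgroup.subgroupOf, Subgroup.comap_map_eq_self_of_injective Subtype.val_injective]
  have hntr : Nontrivial (↥H ⧸ N.subgroupOf H) := by
    rw [← Finite.one_lt_card_iff_nontrivial]
    exact lt_of_lt_of_le (hprime _ hp₀).one_lt (Nat.le_of_dvd Nat.card_pos (hSQ _ hp₀))
  have hsimple : IsSimpleGroup (↥H ⧸ N.subgroupOf H) := by
    refine ⟨fun L hL => or_iff_not_imp_right.2 fun hLtop => ?_⟩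
    have hG' : L.comap (QuotientGroup.mk' _) ∈ Good := by
      refine ⟨hL.comap _, ?_, fun e => hLtop ?_⟩
      · intro x hx
        rw [Subgroup.mem_comap, QuotientGroup.mk'_apply, (QuotientGroup.eq_one_iff x).2 hx]
        exact one_mem L
      · rw [← Subgroup.map_comap_eq_self_of_surjective (QuotientGroup.mk'_surjective _) L, e,
          Subgroup.map_top_of_surjective _ (QuotientGroup.mk'_surjective _)]
    have := (hgreat _ hG').trans hMN.le
    rw [← Subgroup.map_comap_eq_self_of_surjective (QuotientGroup.mk'_surjective _) L, eq_bot_iff]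
    exact (Subgroup.map_mono this).trans (QuotientGroup.map_mk'_self _).le
  refine ⟨N, H, hNn, hHn, hlt, hsimple, fun hc => ?_, hSQ⟩
  let _ : CommGroup (↥H ⧸ N.subgroupOf H) :=
    { (inferInstance : Group (↥H ⧸ N.subgroupOf H)) with mul_comm := fun a b => hc.is_comm.comm a b }
  have hpr : (Nat.card (↥H ⧸ N.subgroupOf H)).Prime := IsSimpleGroup.prime_card
  exact hne₀ (((Nat.prime_dvd_prime_iff_eq (hprime _ hp₀) hpr).1 (hSQ _ hp₀)).trans
    ((Nat.prime_dvd_prime_iff_eq (hprime _ hq₀) hpr).1 (hSQ _ hq₀)).symm)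

end Cfsg.Agent.Spectrum69
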